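import Cfsg.Agent.Lib.PermComp.Spor.J3.Def
import Cfsg.Prelude.Def_Spor_J3

/-!
# The entries of the generators of the definition
-/

namespace Cfsg.Agent.Lib.PermComp.Spor.J3

open Cfsg.Agent.Lib.PermComp Cfsg.Agent.Lib.PermComp.Kron Cfsg.Spor

/-- The coordinates of a power of `ω`. -/
def wpp (n : ZMod 3) : ℕ × ℕ := if n = 0 then (1, 0) else if n = 1 then (0, 1) else (1, 1)

/-- The entries of `A_Z`. -/
def cA (Z w z : F9) : ℕ × ℕ := if w = z then wpp (Z.1 * w.1 + Z.2 * w.2) else (0, 0)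

/-- The entries of `E_Z`. -/
def cE (Z w z : F9) : ℕ × ℕ := if w = z then wpp ((Z.1 - w.1) ^ 2 + (Z.2 - w.2) ^ 2) else (0, 0)

/-- The coefficient of `D_Z`. -/
def cLam (Z z : F9) : ℕ × ℕ :=
  if z = 0 then (1, 0)
  else if F9.div Z z = F9.I - F9.one then (0, 1)
  else if F9.div Z z = -F9.I - F9.one then (1, 1)
  else (1, 0)

/-- The entries of `D_Z`. -/
def cD (Z w z : F9) : ℕ × ℕ := if w = z + Z then cLam Z z else (0, 0)

/-- The entries of `B_Z`. -/
def cB (Z w z : F9) : ℕ × ℕ := if w = F9.mul Z z then (1, 0) else (0, 0)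

/-- The entries of `C_Z`. -/
def cC (Z w z : F9) : ℕ × ℕ :=
  if z = 0 then (if w = 0 then (1, 0) else (0, 0))
  else if w = -F9.div Z z ∨ w = F9.mul F9.I (F9.div Z z) ∨ w = -F9.mul F9.I (F9.div Z z) then (1, 0)
  else (0, 0)

/-- The index of an element of the field with nine elements. -/
def idx (z : F9) : ℕ := z.1.val * 3 + z.2.val

/-- The digits of a left record at the entry `(w, z)`. -/
def dig (g : ℕ) (w z : F9) : ℕ × ℕ :=
  (D 32 (Nat.land g fJ3.mL) (idx w * 9 + idx z), D 32 (Nat.shiftRight g fJ3.wL) (idx w * 9 + idx z))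

set_option maxHeartbeats 0

theorem digA : ∀ Z w z : F9, dig (Core.nthN gAs (idx Z)) w z = cA Z w z := by decide +kernel
theorem digE : ∀ Z w z : F9, dig (Core.nthN gEs (idx Z)) w z = cE Z w z := by decide +kernel
theorem digD : ∀ Z w z : F9, dig (Core.nthN gDs (idx Z)) w z = cD Z w z := by decide +kernel
theorem digB : ∀ Z w z : F9, Z ≠ 0 → dig (Core.nthN gBs (idx Z)) w z = cB Z w z := by decide +kernel
theorem digC : ∀ Z w z : F9, Z ≠ 0 → dig (Core.nthN gCs (idx Z)) w z = cC Z w z := by decide +kernel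

theorem idx_lt : ∀ Z : F9, idx Z < 9 := by decide

end Cfsg.Agent.Lib.PermComp.Spor.J3
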