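import Cfsg.Agent.Lib.PermComp.Spor.J3.Main
import Cfsg.Agent.Lib.PermComp.Spor.J3.Digits

/-!
# The group `threeJ3` of the definitions and the group of the coset table
-/

namespace Cfsg.Agent.Lib.PermComp.Spor.J3

open Cfsg.Agent.Lib.PermComp Cfsg.Agent.Lib.PermComp.Kron Cfsg.Spor Subgroup
open _root_.Cfsg.Agent.Lib.PermComp.Core (nthN)

set_option linter.unusedSectionVars false

/-- The indexing. -/
def e9 : F9 ≃ Fin fJ3.P.d := (finProdFinEquiv : Fin 3 × Fin 3 ≃ Fin (3 * 3))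

theorem e9_val : ∀ z : F9, (e9 z : ℕ) = idx z := by decide

variable {F : Type*} [Field F] {ω : F}

local notation "M" => Matrix (Fin fJ3.P.d) (Fin fJ3.P.d) F

/-- The value of a pair. -/
def val' (ω : F) (p : ℕ × ℕ) : F := val ω p.1 p.2

theorem omegaPow_eq (h2 : (2 : F) = 0) (hω : ω ^ 2 + ω + 1 = 0) (n : ZMod 3) :
    omegaPow F ω n = val' ω (wpp n) := by
  have hs : ω ^ 2 = 1 + ω := by linear_combination hω - (1 + ω) * h2
  have h3 : ∀ n : ZMod 3, n = 0 ∨ n = 1 ∨ n = 2 := by decide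
  rcases h3 n with rfl | rfl | rfl
  · simp [omegaPow, wpp, val', val]
  · have e4 : (1 : ZMod 3).val = 1 := rfl
    simp [omegaPow, wpp, val', val, e4]
  · have e1 : (2 : ZMod 3) ≠ 0 := by decide
    have e2 : (2 : ZMod 3) ≠ 1 := by decide
    have e3 : (2 : ZMod 3).val = 2 := rfl
    simp [omegaPow, wpp, val', val, e1, e2, e3, hs]

theorem val'_zero : val' ω (0, 0) = 0 := by simp [val', val]

theorem val'_one : val' ω (1, 0) = 1 := by simp [val', val]

theorem j3A_entry (h2 : (2 : F) = 0) (hω : ω ^ 2 + ω + 1 = 0) (Z w z : F9) :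
    j3A F ω Z w z = val' ω (cA Z w z) := by
  unfold j3A cA
  rw [Matrix.diagonal_apply]
  split_ifs with h
  · subst h
    exact omegaPow_eq h2 hω _
  · exact val'_zero.symm

theorem j3E_entry (h2 : (2 : F) = 0) (hω : ω ^ 2 + ω + 1 = 0) (Z w z : F9) :
    j3E F ω Z w z = val' ω (cE Z w z) := by
  unfold j3E cE
  rw [Matrix.diagonal_apply]
  split_ifs with h
  · subst h
    exact omegaPow_eq h2 hω _
  · exact val'_zero.symm

theorem j3Lam_eq (h2 : (2 : F) = 0) (hω : ω ^ 2 + ω + 1 = 0) (Z z : F9) :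
    j3Lam F ω Z z = val' ω (cLam Z z) := by
  have hs : ω ^ 2 = 1 + ω := by linear_combination hω - (1 + ω) * h2
  unfold j3Lam cLam
  split_ifs
  · exact val'_one.symm
  · simp [val', val]
  · simp [val', val, hs]
  · exact val'_one.symm

theorem j3D_entry (h2 : (2 : F) = 0) (hω : ω ^ 2 + ω + 1 = 0) (Z w z : F9) :
    j3D F ω Z w z = val' ω (cD Z w z) := by
  show (if w = z + Z then j3Lam F ω Z z else 0) = val' ω (if w = z + Z then cLam Z z else (0, 0))
  split_ifs with h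
  · exact j3Lam_eq h2 hω Z z
  · exact val'_zero.symm

theorem j3B_entry (Z w z : F9) : j3B F Z w z = val' ω (cB Z w z) := by
  show (if w = F9.mul Z z then (1 : F) else 0) =
    val' ω (if w = F9.mul Z z then (1, 0) else (0, 0))
  split_ifs with h
  · exact val'_one.symm
  · exact val'_zero.symm

theorem j3C_entry (Z w z : F9) : j3C F Z w z = val' ω (cC Z w z) := by
  show (if z = 0 then (if w = 0 then (1 : F) else 0)
    else if w = -F9.div Z z ∨ w = F9.mul F9.I (F9.div Z z) ∨ w = -F9.mul F9.I (F9.div Z z) then 1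
    else 0) = val' ω (if z = 0 then (if w = 0 then (1, 0) else (0, 0))
    else if w = -F9.div Z z ∨ w = F9.mul F9.I (F9.div Z z) ∨ w = -F9.mul F9.I (F9.div Z z) then (1, 0)
    else (0, 0))
  split_ifs
  · exact val'_one.symm
  · exact val'_zero.symm
  · exact val'_one.symm
  · exact val'_zero.symm

/-- A matrix with the entries of a left record. -/
theorem reindex_eq {m : Matrix F9 F9 F} {g : ℕ} (h : ∀ w z, m w z = val' ω (dig g w z)) :
    Matrix.reindex e9 e9 m = ML ω fJ3 g := by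
  ext i k
  obtain ⟨w, rfl⟩ := e9.surjective i
  obtain ⟨z, rfl⟩ := e9.surjective k
  rw [Matrix.reindex_apply, Matrix.submatrix_apply, e9.symm_apply_apply, e9.symm_apply_apply, h]
  show val ω _ _ = val ω (D 32 (Nat.land g fJ3.mL) ((e9 w : ℕ) * 9 + e9 z))
    (D 32 (Nat.shiftRight g fJ3.wL) ((e9 w : ℕ) * 9 + e9 z))
  rw [e9_val, e9_val]
  rfl

theorem reindex_A (h2 : (2 : F) = 0) (hω : ω ^ 2 + ω + 1 = 0) (Z : F9) :
    Matrix.reindex e9 e9 (j3A F ω Z) = ML ω fJ3 (nthN gAs (idx Z)) :=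
  reindex_eq fun w z => by rw [j3A_entry h2 hω, digA]

theorem reindex_E (h2 : (2 : F) = 0) (hω : ω ^ 2 + ω + 1 = 0) (Z : F9) :
    Matrix.reindex e9 e9 (j3E F ω Z) = ML ω fJ3 (nthN gEs (idx Z)) :=
  reindex_eq fun w z => by rw [j3E_entry h2 hω, digE]

theorem reindex_D (h2 : (2 : F) = 0) (hω : ω ^ 2 + ω + 1 = 0) (Z : F9) :
    Matrix.reindex e9 e9 (j3D F ω Z) = ML ω fJ3 (nthN gDs (idx Z)) :=
  reindex_eq fun w z => by rw [j3D_entry h2 hω, digD]

theorem reindex_B (Z : F9) (hZ : Z ≠ 0) :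
    Matrix.reindex e9 e9 (j3B F Z) = ML ω fJ3 (nthN gBs (idx Z)) :=
  reindex_eq fun w z => by rw [j3B_entry (ω := ω), digB Z w z hZ]

theorem reindex_C (Z : F9) (hZ : Z ≠ 0) :
    Matrix.reindex e9 e9 (j3C F Z) = ML ω fJ3 (nthN gCs (idx Z)) :=
  reindex_eq fun w z => by rw [j3C_entry (ω := ω), digC Z w z hZ]

/-- The change of indices. -/
noncomputable def φ9 : GL F9 F ≃* (M)ˣ :=
  Units.mapEquiv (Matrix.reindexAlgEquiv F F e9).toMulEquiv

theorem φ9_val (g : GL F9 F) : ((φ9 g : (M)ˣ) : M) = Matrix.reindex e9 e9 (g : Matrix F9 F9 F) := rfl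

/-- The indices of the generators in the lists. -/
theorem sLs_eq : nthN sLs 0 = nthN gCs (idx (0, 1)) ∧ nthN sLs 1 = nthN gDs (idx (0, 1)) := by
  decide +kernel

/-- The sifting of the generators. -/
theorem sift_all {gs ys ks : List ℕ} (h : rangeAll (siftG gs ys ks) 0 9 = true) {i : ℕ} (hi : i < 9) :
    siftOK fJ3 T1 (nthN gs i) (nthN ys i) (nthN ks i) = true :=
  rangeAll_spec h i (Nat.zero_le _) (by simpa using hi)

variable [Finite F] {h2 : (2 : F) = 0} {hω : ω ^ 2 + ω + 1 = 0}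

/-- The group of the definition is the group of the coset table. -/
theorem map_threeJ3 : (threeJ3 F ω).map (φ9 : GL F9 F ≃* (M)ˣ).toMonoidHom = G0 h2 hω := by
  obtain ⟨K, u, hP⟩ := exists_pre h2 hω
  apply le_antisymm
  · rw [threeJ3, MonoidHom.map_closure, closure_le]
    rintro _ ⟨g, hg, rfl⟩
    have key : ∀ {c : ℕ}, (∃ e ∈ G0 h2 hω, ((e : (M)ˣ) : M) = ML ω fJ3 c) →
        Matrix.reindex e9 e9 (g : Matrix F9 F9 F) = ML ω fJ3 c →
        (φ9 : GL F9 F ≃* (M)ˣ).toMonoidHom g ∈ G0 h2 hω := by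
      intro c he hv
      obtain ⟨e, he1, he2⟩ := he
      have : (φ9 : GL F9 F ≃* (M)ˣ).toMonoidHom g = e := by
        apply Units.ext
        rw [he2, ← hv]
        rfl
      rw [this]
      exact he1
    rcases hg with ((((⟨Z, hZ⟩ | ⟨Z, hZ⟩) | ⟨Z, hZ⟩) | ⟨Z, hZ0, hZ⟩) | ⟨Z, hZ0, hZ⟩)
    · exact key (hP.sift (sift_all gA_ok (idx_lt Z))) (by rw [← hZ]; exact reindex_A h2 hω Z)
    · exact key (hP.sift (sift_all gE_ok (idx_lt Z))) (by rw [← hZ]; exact reindex_E h2 hω Z)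
    · exact key (hP.sift (sift_all gD_ok (idx_lt Z))) (by rw [← hZ]; exact reindex_D h2 hω Z)
    · exact key (hP.sift (sift_all gB_ok (idx_lt Z))) (by rw [hZ]; exact reindex_B Z hZ0)
    · exact key (hP.sift (sift_all gC_ok (idx_lt Z))) (by rw [hZ]; exact reindex_C Z hZ0)
  · rw [closure_le]
    have key : ∀ (s : (M)ˣ) (m : Matrix F9 F9 F), m ∈ j3Gens F ω →
        (s : M) = Matrix.reindex e9 e9 m →
        s ∈ (threeJ3 F ω).map (φ9 : GL F9 F ≃* (M)ˣ).toMonoidHom := by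
      intro s m hm hs
      refine ⟨φ9.symm s, subset_closure ?_, by simp⟩
      show ((φ9.symm s : GL F9 F) : Matrix F9 F9 F) ∈ j3Gens F ω
      have : ((φ9.symm s : GL F9 F) : Matrix F9 F9 F) = m := by
        apply (Matrix.reindex e9 e9).injective
        rw [← φ9_val, MulEquiv.apply_symm_apply, hs]
      rw [this]
      exact hm
    rintro s (rfl | rfl)
    · refine key _ (j3C F (0, 1)) (Or.inr ⟨_, by decide, rfl⟩) ?_
      rw [reindex_C (ω := ω) (0, 1) (by decide), ← sLs_eq.1]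
      rfl
    · refine key _ (j3D F ω (0, 1)) (Or.inl (Or.inl (Or.inr ⟨_, rfl⟩))) ?_
      rw [reindex_D h2 hω (0, 1), ← sLs_eq.2]
      rfl

/-- The isomorphism. -/
noncomputable def equivG0 (h2 : (2 : F) = 0) (hω : ω ^ 2 + ω + 1 = 0) : threeJ3 F ω ≃* G0 h2 hω :=
  ((φ9 : GL F9 F ≃* (M)ˣ).subgroupMap (threeJ3 F ω)).trans (MulEquiv.subgroupCongr map_threeJ3)

end Cfsg.Agent.Lib.PermComp.Spor.J3
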