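import Cfsg.Agent.Lib.PermComp.Spor.J3.Def

/-!
# The check of the forest

Generated by `tools/gen_j3.py`.
-/

namespace Cfsg.Agent.Lib.PermComp.Spor.J3

open Cfsg.Agent.Lib.PermComp Cfsg.Agent.Lib.PermComp.Kron

set_option maxHeartbeats 0

theorem fr_0 : rangeAll (below 6156 (F1.atOK fJ3 T1)) (0 * 500) 500 = true := by decide +kernel
theorem fr_1 : rangeAll (below 6156 (F1.atOK fJ3 T1)) (1 * 500) 500 = true := by decide +kernel
theorem fr_2 : rangeAll (below 6156 (F1.atOK fJ3 T1)) (2 * 500) 500 = true := by decide +kernel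
theorem fr_3 : rangeAll (below 6156 (F1.atOK fJ3 T1)) (3 * 500) 500 = true := by decide +kernel
theorem fr_4 : rangeAll (below 6156 (F1.atOK fJ3 T1)) (4 * 500) 500 = true := by decide +kernel
theorem fr_5 : rangeAll (below 6156 (F1.atOK fJ3 T1)) (5 * 500) 500 = true := by decide +kernel
theorem fr_6 : rangeAll (below 6156 (F1.atOK fJ3 T1)) (6 * 500) 500 = true := by decide +kernel
theorem fr_7 : rangeAll (below 6156 (F1.atOK fJ3 T1)) (7 * 500) 500 = true := by decide +kernel
theorem fr_8 : rangeAll (below 6156 (F1.atOK fJ3 T1)) (8 * 500) 500 = true := by decide +kernel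
theorem fr_9 : rangeAll (below 6156 (F1.atOK fJ3 T1)) (9 * 500) 500 = true := by decide +kernel
theorem fr_10 : rangeAll (below 6156 (F1.atOK fJ3 T1)) (10 * 500) 500 = true := by decide +kernel
theorem fr_11 : rangeAll (below 6156 (F1.atOK fJ3 T1)) (11 * 500) 500 = true := by decide +kernel
theorem fr_12 : rangeAll (below 6156 (F1.atOK fJ3 T1)) (12 * 500) 500 = true := by decide +kernel

end Cfsg.Agent.Lib.PermComp.Spor.J3
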