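import Cfsg.Agent.Lib.PermComp.Spor.J3.Def

/-!
# The check of the list of the subgroup

Generated by `tools/gen_j3.py`.
-/

namespace Cfsg.Agent.Lib.PermComp.Spor.J3

open Cfsg.Agent.Lib.PermComp Cfsg.Agent.Lib.PermComp.Kron

set_option maxHeartbeats 0

theorem k_12 : rangeAll (below 24480 (T2.atOK fJ3)) (12 * 500) 500 = true := by decide +kernel
theorem k_13 : rangeAll (below 24480 (T2.atOK fJ3)) (13 * 500) 500 = true := by decide +kernel
theorem k_14 : rangeAll (below 24480 (T2.atOK fJ3)) (14 * 500) 500 = true := by decide +kernel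
theorem k_15 : rangeAll (below 24480 (T2.atOK fJ3)) (15 * 500) 500 = true := by decide +kernel
theorem k_16 : rangeAll (below 24480 (T2.atOK fJ3)) (16 * 500) 500 = true := by decide +kernel
theorem k_17 : rangeAll (below 24480 (T2.atOK fJ3)) (17 * 500) 500 = true := by decide +kernel
theorem k_18 : rangeAll (below 24480 (T2.atOK fJ3)) (18 * 500) 500 = true := by decide +kernel
theorem k_19 : rangeAll (below 24480 (T2.atOK fJ3)) (19 * 500) 500 = true := by decide +kernel
theorem k_20 : rangeAll (below 24480 (T2.atOK fJ3)) (20 * 500) 500 = true := by decide +kernel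
theorem k_21 : rangeAll (below 24480 (T2.atOK fJ3)) (21 * 500) 500 = true := by decide +kernel
theorem k_22 : rangeAll (below 24480 (T2.atOK fJ3)) (22 * 500) 500 = true := by decide +kernel
theorem k_23 : rangeAll (below 24480 (T2.atOK fJ3)) (23 * 500) 500 = true := by decide +kernel

end Cfsg.Agent.Lib.PermComp.Spor.J3
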