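import Cfsg.Agent.Lib.PermComp.Spor.J3.Def

/-!
# The check of the list of the subgroup

Generated by `tools/gen_j3.py`.
-/

namespace Cfsg.Agent.Lib.PermComp.Spor.J3

open Cfsg.Agent.Lib.PermComp Cfsg.Agent.Lib.PermComp.Kron

set_option maxHeartbeats 0

theorem k_24 : rangeAll (below 24480 (T2.atOK fJ3)) (24 * 500) 500 = true := by decide +kernel
theorem k_25 : rangeAll (below 24480 (T2.atOK fJ3)) (25 * 500) 500 = true := by decide +kernel
theorem k_26 : rangeAll (below 24480 (T2.atOK fJ3)) (26 * 500) 500 = true := by decide +kernel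
theorem k_27 : rangeAll (below 24480 (T2.atOK fJ3)) (27 * 500) 500 = true := by decide +kernel
theorem k_28 : rangeAll (below 24480 (T2.atOK fJ3)) (28 * 500) 500 = true := by decide +kernel
theorem k_29 : rangeAll (below 24480 (T2.atOK fJ3)) (29 * 500) 500 = true := by decide +kernel
theorem k_30 : rangeAll (below 24480 (T2.atOK fJ3)) (30 * 500) 500 = true := by decide +kernel
theorem k_31 : rangeAll (below 24480 (T2.atOK fJ3)) (31 * 500) 500 = true := by decide +kernel
theorem k_32 : rangeAll (below 24480 (T2.atOK fJ3)) (32 * 500) 500 = true := by decide +kernel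
theorem k_33 : rangeAll (below 24480 (T2.atOK fJ3)) (33 * 500) 500 = true := by decide +kernel
theorem k_34 : rangeAll (below 24480 (T2.atOK fJ3)) (34 * 500) 500 = true := by decide +kernel
theorem k_35 : rangeAll (below 24480 (T2.atOK fJ3)) (35 * 500) 500 = true := by decide +kernel

end Cfsg.Agent.Lib.PermComp.Spor.J3
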