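import Cfsg.Agent.Lib.PermComp.Spor.J3.Def

/-!
# The check of the list of the subgroup

Generated by `tools/gen_j3.py`.
-/

namespace Cfsg.Agent.Lib.PermComp.Spor.J3

open Cfsg.Agent.Lib.PermComp Cfsg.Agent.Lib.PermComp.Kron

set_option maxHeartbeats 0

theorem k_36 : rangeAll (below 24480 (T2.atOK fJ3)) (36 * 500) 500 = true := by decide +kernel
theorem k_37 : rangeAll (below 24480 (T2.atOK fJ3)) (37 * 500) 500 = true := by decide +kernel
theorem k_38 : rangeAll (below 24480 (T2.atOK fJ3)) (38 * 500) 500 = true := by decide +kernel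
theorem k_39 : rangeAll (below 24480 (T2.atOK fJ3)) (39 * 500) 500 = true := by decide +kernel
theorem k_40 : rangeAll (below 24480 (T2.atOK fJ3)) (40 * 500) 500 = true := by decide +kernel
theorem k_41 : rangeAll (below 24480 (T2.atOK fJ3)) (41 * 500) 500 = true := by decide +kernel
theorem k_42 : rangeAll (below 24480 (T2.atOK fJ3)) (42 * 500) 500 = true := by decide +kernel
theorem k_43 : rangeAll (below 24480 (T2.atOK fJ3)) (43 * 500) 500 = true := by decide +kernel
theorem k_44 : rangeAll (below 24480 (T2.atOK fJ3)) (44 * 500) 500 = true := by decide +kernel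
theorem k_45 : rangeAll (below 24480 (T2.atOK fJ3)) (45 * 500) 500 = true := by decide +kernel
theorem k_46 : rangeAll (below 24480 (T2.atOK fJ3)) (46 * 500) 500 = true := by decide +kernel
theorem k_47 : rangeAll (below 24480 (T2.atOK fJ3)) (47 * 500) 500 = true := by decide +kernel
theorem k_48 : rangeAll (below 24480 (T2.atOK fJ3)) (48 * 500) 500 = true := by decide +kernel

end Cfsg.Agent.Lib.PermComp.Spor.J3
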