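import Cfsg.Agent.Lib.PermComp.Spor.J3.Def

/-!
# The checks of the Sylow subgroups

Generated by `tools/gen_j3.py`.
-/

namespace Cfsg.Agent.Lib.PermComp.Spor.J3

open Cfsg.Agent.Lib.PermComp Cfsg.Agent.Lib.PermComp.Kron

set_option maxHeartbeats 0

/-- The check of a list. -/
noncomputable def listAt (L : LT) (M : MV) (x : Nat) : Bool :=
  Core.ifB (L.atOK fJ3 x) (M.atOK fJ3 T1 x)

/-- The check of the sifting of the generators of a list. -/
noncomputable def siftAt (L : LT) (sy sk : List Nat) (j : Nat) : Bool :=
  siftOK fJ3 T1 (L.sL j) (Core.nthN sy j) (Core.nthN sk j)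

theorem S3_ok_0 : rangeAll (below 729 (listAt S3_L S3_M)) (0 * 100) 100 = true := by decide +kernel
theorem S3_ok_1 : rangeAll (below 729 (listAt S3_L S3_M)) (1 * 100) 100 = true := by decide +kernel
theorem S3_ok_2 : rangeAll (below 729 (listAt S3_L S3_M)) (2 * 100) 100 = true := by decide +kernel
theorem S3_ok_3 : rangeAll (below 729 (listAt S3_L S3_M)) (3 * 100) 100 = true := by decide +kernel
theorem S3_ok_4 : rangeAll (below 729 (listAt S3_L S3_M)) (4 * 100) 100 = true := by decide +kernel
theorem S3_ok_5 : rangeAll (below 729 (listAt S3_L S3_M)) (5 * 100) 100 = true := by decide +kernel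
theorem S3_ok_6 : rangeAll (below 729 (listAt S3_L S3_M)) (6 * 100) 100 = true := by decide +kernel
theorem S3_ok_7 : rangeAll (below 729 (listAt S3_L S3_M)) (7 * 100) 100 = true := by decide +kernel
theorem S3_sorted : sortedB S3_L.UR S3_sig 729 729 = true := by decide +kernel
theorem S3_sift : rangeAll (siftAt S3_L S3_SY S3_SK) 0 S3_L.m = true := by decide +kernel
theorem S2_ok_0 : rangeAll (below 128 (listAt S2_L S2_M)) (0 * 128) 128 = true := by decide +kernel
theorem S2_sorted : sortedB S2_L.UR S2_sig 128 128 = true := by decide +kernel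
theorem S2_sift : rangeAll (siftAt S2_L S2_SY S2_SK) 0 S2_L.m = true := by decide +kernel
theorem P5_ok_0 : rangeAll (below 5 (listAt P5_L P5_M)) (0 * 5) 5 = true := by decide +kernel
theorem P5_sorted : sortedB P5_L.UR P5_sig 5 5 = true := by decide +kernel
theorem P5_sift : rangeAll (siftAt P5_L P5_SY P5_SK) 0 P5_L.m = true := by decide +kernel
theorem P17_ok_0 : rangeAll (below 17 (listAt P17_L P17_M)) (0 * 17) 17 = true := by decide +kernel
theorem P17_sorted : sortedB P17_L.UR P17_sig 17 17 = true := by decide +kernel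
theorem P17_sift : rangeAll (siftAt P17_L P17_SY P17_SK) 0 P17_L.m = true := by decide +kernel
theorem P19_ok_0 : rangeAll (below 19 (listAt P19_L P19_M)) (0 * 19) 19 = true := by decide +kernel
theorem P19_sorted : sortedB P19_L.UR P19_sig 19 19 = true := by decide +kernel
theorem P19_sift : rangeAll (siftAt P19_L P19_SY P19_SK) 0 P19_L.m = true := by decide +kernel

end Cfsg.Agent.Lib.PermComp.Spor.J3
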