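import Cfsg.Agent.Lib.PermComp.Spor.J3.Def

/-!
# Other checks

Generated by `tools/gen_j3.py`.
-/

namespace Cfsg.Agent.Lib.PermComp.Spor.J3

open Cfsg.Agent.Lib.PermComp Cfsg.Agent.Lib.PermComp.Kron

set_option maxHeartbeats 0

/-- The check of the sifting of the generators of a family. -/
noncomputable def siftG (gs ys ks : List Nat) (j : Nat) : Bool :=
  siftOK fJ3 T1 (Core.nthN gs j) (Core.nthN ys j) (Core.nthN ks j)

theorem gA_ok : rangeAll (siftG gAs yAs kAs) 0 9 = true := by decide +kernel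
theorem gE_ok : rangeAll (siftG gEs yEs kEs) 0 9 = true := by decide +kernel
theorem gD_ok : rangeAll (siftG gDs yDs kDs) 0 9 = true := by decide +kernel
theorem gB_ok : rangeAll (siftG gBs yBs kBs) 0 9 = true := by decide +kernel
theorem gC_ok : rangeAll (siftG gCs yCs kCs) 0 9 = true := by decide +kernel

theorem slp_ok : rangeAll (S1.atOK fJ3) 0 Vlen = true := by decide +kernel

theorem slp_x : S1.VR Vix = Core.nthN sRs 0 := by decide +kernel
theorem slp_y : S1.VR Viy = Core.nthN sRs 1 := by decide +kernel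
theorem slp_ix : Vix < Vlen := by decide +kernel
theorem slp_iy : Viy < Vlen := by decide +kernel

/-- The generators: validity, left and right forms, inverses. -/
noncomputable def sgenOK (j : Nat) : Bool :=
  Core.ifB (fJ3.vL (Core.nthN sLs j)) <|
  Core.ifB (fJ3.vR (Core.nthN sRs j)) <|
  Core.ifB (fJ3.vR (Core.nthN sIRs j)) <|
  Core.ifB (fJ3.chkP (Core.nthN sLs j) fJ3.IR fJ3.IL (Core.nthN sRs j)) <|
  fJ3.chkP (Core.nthN sLs j) (Core.nthN sIRs j) fJ3.IL fJ3.IR

theorem sgen_ok0 : sgenOK 0 = true := by decide +kernel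
theorem sgen_ok1 : sgenOK 1 = true := by decide +kernel

/-- The generators of the subgroup: validity and place in the table. -/
noncomputable def kgenOK (t j x : Nat) : Bool :=
  Core.ifB (fJ3.vL (Core.nthN kLs t)) <|
  Core.ifB (Nat.ble (Nat.succ j) 2) <|
  Core.ifB (Nat.ble (Nat.succ x) 6156) <|
  fJ3.chkP (Core.nthN kLs t) fJ3.IR fJ3.IL (T1.KR (T1.kid j x))

theorem kgen_ok0 : kgenOK 0 1 4706 = true := by decide +kernel
theorem kgen_ok1 : kgenOK 1 1 3575 = true := by decide +kernel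

theorem base_ok : fJ3.chkP (Core.nthN P19_gs 0) fJ3.IR fJ3.IL Vbase = true := by decide +kernel
theorem vR_base : fJ3.vR Vbase = true := by decide +kernel
theorem vL_base : fJ3.vL (Core.nthN P19_gs 0) = true := by decide +kernel
theorem base_ne : Vbase ≠ fJ3.IR := by decide +kernel

theorem scal_ok : T2.UR iKω = Rω := by decide +kernel
theorem iKω_lt : iKω < 24480 := by decide +kernel
theorem vR_ω : fJ3.vR Rω = true := by decide +kernel
theorem vR_ω2 : fJ3.vR Rω2 = true := by decide +kernel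

/-- the digits of the scalars -/
theorem Rω_0 : ∀ k < 9, ∀ j < 9, D 32 (Nat.land Rω fJ3.mR) (pJ3.pos k j) = 0 := by decide +kernel
theorem Rω_1 : ∀ k < 9, ∀ j < 9, D 32 (Nat.shiftRight Rω fJ3.wR) (pJ3.pos k j) = if k = j then 1 else 0 := by decide +kernel
theorem Rω2_0 : ∀ k < 9, ∀ j < 9, D 32 (Nat.land Rω2 fJ3.mR) (pJ3.pos k j) = if k = j then 1 else 0 := by decide +kernel
theorem Rω2_1 : ∀ k < 9, ∀ j < 9, D 32 (Nat.shiftRight Rω2 fJ3.wR) (pJ3.pos k j) = if k = j then 1 else 0 := by decide +kernel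

/-- The exceptions are scalars. -/
theorem S3_exc : Core.allL (fun x => Core.ifB (Nat.ble (Nat.succ x) 729) (Core.memN (S3_L.UR x) [fJ3.IR, Rω, Rω2])) S3_EX = true := by decide +kernel
theorem S2_exc : Core.allL (fun x => Core.ifB (Nat.ble (Nat.succ x) 128) (Nat.beq (S2_L.UR x) fJ3.IR)) S2_EX = true := by decide +kernel
theorem P5_exc : Core.allL (fun x => Core.ifB (Nat.ble (Nat.succ x) 5) (Nat.beq (P5_L.UR x) fJ3.IR)) P5_EX = true := by decide +kernel
theorem P17_exc : Core.allL (fun x => Core.ifB (Nat.ble (Nat.succ x) 17) (Nat.beq (P17_L.UR x) fJ3.IR)) P17_EX = true := by decide +kernel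
theorem P19_exc : Core.allL (fun x => Core.ifB (Nat.ble (Nat.succ x) 19) (Nat.beq (P19_L.UR x) fJ3.IR)) P19_EX = true := by decide +kernel

/-- The orbits of the subgroup. -/
theorem orbit_count : ∀ l < 8, countB F1.lab l 6156 0 = Core.nthN FC l := by decide +kernel
theorem rep_lt : ∀ l < 8, Core.nthN FREP l < 6156 := by decide +kernel
theorem lab_zero : F1.lab 0 = 0 := by decide +kernel
theorem hsum_dec : ∀ I : Finset (Fin 8), (0 : Fin 8) ∈ I → (∑ i ∈ I, Core.nthN FC i) ∣ 6156 →
    (∑ i ∈ I, Core.nthN FC i) = 1 ∨ (∑ i ∈ I, Core.nthN FC i) = 6156 := by decide +kernel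

end Cfsg.Agent.Lib.PermComp.Spor.J3
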