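import Cfsg.Agent.Lib.PermComp.Spor.J3.ChkU
import Cfsg.Agent.Lib.PermComp.Spor.J3.ChkF
import Cfsg.Agent.Lib.PermComp.Spor.J3.ChkK0
import Cfsg.Agent.Lib.PermComp.Spor.J3.ChkK1
import Cfsg.Agent.Lib.PermComp.Spor.J3.ChkK2
import Cfsg.Agent.Lib.PermComp.Spor.J3.ChkK3
import Cfsg.Agent.Lib.PermComp.Spor.J3.ChkL
import Cfsg.Agent.Lib.PermComp.Spor.J3.ChkO

/-!
# All the checks, put together
-/

namespace Cfsg.Agent.Lib.PermComp.Spor.J3

open Cfsg.Agent.Lib.PermComp Cfsg.Agent.Lib.PermComp.Kron

theorem t1_ok : ∀ x < T1.n, T1.atOK fJ3 x = true := by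
  intro x hx
  have hx' : x < 6156 := hx
  refine below_spec (forall_of_chunks (s := 500) (c := 13) (by norm_num) (fun i hi => ?_) (by norm_num) x hx') hx'
  interval_cases i
  · exact u_0
  · exact u_1
  · exact u_2
  · exact u_3
  · exact u_4
  · exact u_5
  · exact u_6
  · exact u_7
  · exact u_8
  · exact u_9
  · exact u_10
  · exact u_11
  · exact u_12

theorem f1_ok : ∀ x < T1.n, F1.atOK fJ3 T1 x = true := by
  intro x hx
  have hx' : x < 6156 := hx
  refine below_spec (forall_of_chunks (s := 500) (c := 13) (by norm_num) (fun i hi => ?_) (by norm_num) x hx') hx'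
  interval_cases i
  · exact fr_0
  · exact fr_1
  · exact fr_2
  · exact fr_3
  · exact fr_4
  · exact fr_5
  · exact fr_6
  · exact fr_7
  · exact fr_8
  · exact fr_9
  · exact fr_10
  · exact fr_11
  · exact fr_12

theorem t2_ok : ∀ x < T2.n, T2.atOK fJ3 x = true := by
  intro x hx
  have hx' : x < 24480 := hx
  refine below_spec (forall_of_chunks (s := 500) (c := 49) (by norm_num) (fun i hi => ?_) (by norm_num) x hx') hx'
  interval_cases i
  · exact k_0
  · exact k_1
  · exact k_2
  · exact k_3
  · exact k_4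
  · exact k_5
  · exact k_6
  · exact k_7
  · exact k_8
  · exact k_9
  · exact k_10
  · exact k_11
  · exact k_12
  · exact k_13
  · exact k_14
  · exact k_15
  · exact k_16
  · exact k_17
  · exact k_18
  · exact k_19
  · exact k_20
  · exact k_21
  · exact k_22
  · exact k_23
  · exact k_24
  · exact k_25
  · exact k_26
  · exact k_27
  · exact k_28
  · exact k_29
  · exact k_30
  · exact k_31
  · exact k_32
  · exact k_33
  · exact k_34
  · exact k_35
  · exact k_36
  · exact k_37
  · exact k_38
  · exact k_39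
  · exact k_40
  · exact k_41
  · exact k_42
  · exact k_43
  · exact k_44
  · exact k_45
  · exact k_46
  · exact k_47
  · exact k_48

theorem S3_ok : ∀ x < S3_L.n, listAt S3_L S3_M x = true := by
  intro x hx
  have hx' : x < 729 := hx
  refine below_spec (forall_of_chunks (s := 100) (c := 8) (by norm_num) (fun i hi => ?_) (by norm_num) x hx') hx'
  interval_cases i
  · exact S3_ok_0
  · exact S3_ok_1
  · exact S3_ok_2
  · exact S3_ok_3
  · exact S3_ok_4
  · exact S3_ok_5
  · exact S3_ok_6
  · exact S3_ok_7

theorem S2_ok : ∀ x < S2_L.n, listAt S2_L S2_M x = true := by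
  intro x hx
  have hx' : x < 128 := hx
  refine below_spec (forall_of_chunks (s := 128) (c := 1) (by norm_num) (fun i hi => ?_) (by norm_num) x hx') hx'
  interval_cases i
  exact S2_ok_0

theorem P5_ok : ∀ x < P5_L.n, listAt P5_L P5_M x = true := by
  intro x hx
  have hx' : x < 5 := hx
  refine below_spec (forall_of_chunks (s := 5) (c := 1) (by norm_num) (fun i hi => ?_) (by norm_num) x hx') hx'
  interval_cases i
  exact P5_ok_0

theorem P17_ok : ∀ x < P17_L.n, listAt P17_L P17_M x = true := by
  intro x hx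
  have hx' : x < 17 := hx
  refine below_spec (forall_of_chunks (s := 17) (c := 1) (by norm_num) (fun i hi => ?_) (by norm_num) x hx') hx'
  interval_cases i
  exact P17_ok_0

theorem P19_ok : ∀ x < P19_L.n, listAt P19_L P19_M x = true := by
  intro x hx
  have hx' : x < 19 := hx
  refine below_spec (forall_of_chunks (s := 19) (c := 1) (by norm_num) (fun i hi => ?_) (by norm_num) x hx') hx'
  interval_cases i
  exact P19_ok_0

end Cfsg.Agent.Lib.PermComp.Spor.J3
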