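import Cfsg.Agent.Lib.PermComp.Spor.J3.UL
import Cfsg.Agent.Lib.PermComp.Spor.J3.UR
import Cfsg.Agent.Lib.PermComp.Spor.J3.KR1
import Cfsg.Agent.Lib.PermComp.Spor.J3.KR2
import Cfsg.Agent.Lib.PermComp.Spor.J3.Tab
import Cfsg.Agent.Lib.PermComp.Spor.J3.Lists
import Cfsg.Agent.Lib.PermComp.Spor.J3.Gens
import Cfsg.Agent.Lib.PermComp.Spor.J3.Slp

/-!
# The coset table of the group `3.J3` over a subgroup of order 24480
-/

namespace Cfsg.Agent.Lib.PermComp.Spor.J3

open Cfsg.Agent.Lib.PermComp Cfsg.Agent.Lib.PermComp.Kron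

/-- The right records of the elements of the subgroup. -/
noncomputable def KRf (k : Nat) : Nat :=
  Bool.rec (lookR KRtab2 (Nat.sub k 12224)) (lookR KRtab1 k) (Nat.ble (Nat.succ k) 12224)

/-- The main table. -/
noncomputable def T1 : KT where
  n := 6156
  m := 2
  nK := 24480
  sL := fun j => Core.nthN sLs j
  UL := fun x => lookL ULtab x
  UR := fun x => lookR URtab x
  KR := KRf
  pg := fun x => Core.app 1 1 PGtab x
  par := fun x => Core.app 13 8191 PARtab x
  tab := fun j x => Core.app 13 8191 (Core.nthN TABs j) x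
  kid := fun j x => Core.app 15 32767 (Core.nthN KIDs j) x

/-- The list of the subgroup. -/
noncomputable def T2 : LT where
  n := 24480
  m := 2
  sL := fun j => Core.nthN kLs j
  UR := KRf
  pg := fun x => Core.app 1 1 KPGtab x
  par := fun x => Core.app 15 32767 KPARtab x
  tab := fun j x => Core.app 15 32767 (Core.nthN KTABs j) x

/-- The forest. -/
noncomputable def F1 : FR where
  r := 8
  rep := fun l => Core.nthN FREP l
  lab := fun x => Core.app 3 7 FLAB x
  dep := fun x => Core.app 5 31 FDEP x
  par := fun x => Core.app 13 8191 FPAR x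
  pg := fun x => Core.app 1 1 FPG x
  kid := fun x => Core.app 15 32767 FKID x
  m := 2
  sL := fun j => Core.nthN kLs j

/-- The program. -/
noncomputable def S1 : SP where
  VL := fun x => lookL VLtab x
  VR := fun x => lookR VRtab x
  kind := fun x => Core.app 2 3 Vkind x
  a := fun x => Core.app 7 127 Va x
  b := fun x => Core.app 7 127 Vb x
  m := 2
  sL := fun j => Core.nthN sLs j
  sR := fun j => Core.nthN sRs j
  base := Vbase

end Cfsg.Agent.Lib.PermComp.Spor.J3
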