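import Cfsg.Agent.Lib.PermComp.Kron3

/-!
# The format of the records

Generated by `tools/gen_j3.py`.
-/

namespace Cfsg.Agent.Lib.PermComp.Spor.J3

open Cfsg.Agent.Lib.PermComp Cfsg.Agent.Lib.PermComp.Kron

/-- The parameters. -/
abbrev pJ3 : Par where
  b := 5
  d := 9
  dmask := 31
  rmask := nat_lit 0x1fffffffffff
  MT := nat_lit 0x1000000000000000000000800000000000000000000400000000000000000000200000000000000000000100000000000000000000080000000000000000000040000000000000000000020000000000000000000010000000000

/-- The format of the records. -/
abbrev fJ3 : Fmt where
  P := pJ3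
  wL := 405
  mL := nat_lit 0x1fffffffffffffffffffffffffffffffffffffffffffffffffffffffffffffffffffffffffffffffffffffffffffffffffffff
  wR := 725
  mR := nat_lit 0x1fffffffffffffffffffffffffffffffffffffffffffffffffffffffffffffffffffffffffffffffffffffffffffffffffffffffffffffffffffffffffffffffffffffffffffffffffffffffffffffffffffffffffffffffffffff
  DL := nat_lit 0x2108421084210842108421084210842108421084210842108421084210842108421084210842108421084210842108421084210842108421084210842108421084210842108421084210842108421084210842108421084210842108421084210842108421
  DR := nat_lit 0x21084210842000000000010842108421000000000008421084210800000000004210842108400000000002108421084200000000001084210842100000000000842108421080000000000421084210840000000000210842108421084210842100000000000842108421080000000000421084210840000000000210842108420000000000108421084210000000000084210842108000000000042108421084000000000021084210842000000000010842108421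
  IL := nat_lit 0x10000000000004000000000001000000000000400000000000100000000000040000000000010000000000004000000000001
  IR := nat_lit 0x100000000000000000001000000000000000000010000000000000000000100000000000000000001000000000000000000010000000000000000000100000000000000000001000000000000000000010000000000

theorem pJ3_good : pJ3.Good where
  hb := by decide
  hd := by decide
  hdb := by decide
  hr := by decide +kernel
  hMT := by decide +kernel

theorem fJ3_good : fJ3.Good where
  hP := pJ3_good
  hDL0 := small_of_smallB (T := 81) (by decide +kernel)
  hDL1 := small_of_smallB (T := 81) (by decide +kernel)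
  hDR0 := small_of_smallB (T := 145) (by decide +kernel)
  hDR1 := small_of_smallB (T := 145) (by decide +kernel)
  hIL0 := by decide +kernel
  hIL1 := by decide +kernel
  hIR0 := by decide +kernel
  hIR1 := by decide +kernel
  hvIL := by decide +kernel
  hvIR := by decide +kernel

theorem pos_of_bounded {y T : Nat} (hy : y < 32 ^ T)
    (h : ∀ t < T, D 32 y t ≠ 0 → ∃ k < 9, ∃ j < 9, t = pJ3.pos k j) :
    ∀ t, D pJ3.β y t ≠ 0 → ∃ k < pJ3.d, ∃ j < pJ3.d, t = pJ3.pos k j := by
  intro t ht
  by_cases htT : t < T
  · exact h t htT ht
  · exfalso
    apply ht
    show y / 32 ^ t % 32 = 0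
    have h1 : 32 ^ T ≤ 32 ^ t := Nat.pow_le_pow_right (by norm_num) (by omega)
    rw [Nat.div_eq_of_lt (lt_of_lt_of_le hy h1)]

theorem fJ3_inj : fJ3.Inj where
  hmR := by decide +kernel
  hpos0 := pos_of_bounded (T := 145) (by decide +kernel) (by decide +kernel)
  hpos1 := pos_of_bounded (T := 145) (by decide +kernel) (by decide +kernel)

/-- Lookup in a list of lists of chunks. -/
noncomputable def nthL (T : List (List Nat)) : Nat → List Nat :=
  List.rec (motive := fun _ => Nat → List Nat) (fun _ => [])
    (fun a _ ih j => Nat.rec a (fun j' _ => ih j') j) T

/-- Lookup in a list of lists of chunks of `32` records. -/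
noncomputable def look (w mask : Nat) (T : List (List Nat)) (x : Nat) : Nat :=
  Core.force (Nat.shiftRight x 5) fun c =>
  Core.app w mask (Core.nthN (nthL T (Nat.shiftRight c 5)) (Nat.land c 31)) (Nat.land x 31)

/-- Records of the form of the left records. -/
noncomputable def lookL (T : List (List Nat)) (x : Nat) : Nat := look 810 (nat_lit 0x3ffffffffffffffffffffffffffffffffffffffffffffffffffffffffffffffffffffffffffffffffffffffffffffffffffffffffffffffffffffffffffffffffffffffffffffffffffffffffffffffffffffffffffffffffffffffffffffffffffffffffff) T x

/-- Records of the form of the right records. -/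
noncomputable def lookR (T : List (List Nat)) (x : Nat) : Nat := look 1450 (nat_lit 0x3ffffffffffffffffffffffffffffffffffffffffffffffffffffffffffffffffffffffffffffffffffffffffffffffffffffffffffffffffffffffffffffffffffffffffffffffffffffffffffffffffffffffffffffffffffffffffffffffffffffffffffffffffffffffffffffffffffffffffffffffffffffffffffffffffffffffffffffffffffffffffffffffffffffffffffffffffffffffffffffffffffffffffffffffffffffffffffffffffffffffffff) T x

/-- A list of triples for sifting. -/
noncomputable def siftOK (f : Fmt) (T : KT) (g y k : Nat) : Bool :=
  Core.ifB (f.vL g) <|
  Core.ifB (Nat.ble (Nat.succ y) T.n) <|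
  Core.ifB (Nat.ble (Nat.succ k) T.nK) <|
  f.chkP g f.IR (T.UL y) (T.KR k)

end Cfsg.Agent.Lib.PermComp.Spor.J3
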