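import Cfsg.Agent.Lib.PermComp.Spor.J3.Chk
import Cfsg.Agent.Lib.PermComp.Cover

/-!
# The group `3.J3` from the coset table

For a commutative ring... for a field `F` of characteristic two with an element `ω` such that
`ω² + ω + 1 = 0`, the two matrices of the table generate a group of order 150698880, with an
action on 6156 points with kernel its centre, of order 3, the image being simple.
-/

namespace Cfsg.Agent.Lib.PermComp.Spor.J3

open Cfsg.Agent.Lib.PermComp Cfsg.Agent.Lib.PermComp.Kron Subgroup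
open _root_.Cfsg.Agent.Lib.PermComp.Core (force force_eq app ifB ifB_eq_true nthN)
open _root_.Cfsg.Agent.Lib.PermComp.Table2 (Tbl)

set_option maxHeartbeats 1000000
set_option linter.unusedSectionVars false

variable {F : Type*} [Field F] [Finite F] {ω : F}

local notation "M" => Matrix (Fin fJ3.P.d) (Fin fJ3.P.d) F

theorem sgen_parts {j : Nat} (h : sgenOK j = true) :
    fJ3.vL (nthN sLs j) = true ∧ fJ3.vR (nthN sRs j) = true ∧ fJ3.vR (nthN sIRs j) = true ∧
    fJ3.chkP (nthN sLs j) fJ3.IR fJ3.IL (nthN sRs j) = true ∧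
    fJ3.chkP (nthN sLs j) (nthN sIRs j) fJ3.IL fJ3.IR = true := by
  simpa only [sgenOK, ifB_eq_true] using h

section Gen

variable (h2 : (2 : F) = 0) (hω : ω ^ 2 + ω + 1 = 0)

include h2 hω in
theorem sgen_inv {j : Nat} (h : sgenOK j = true) :
    ML ω fJ3 (nthN sLs j) * MR ω fJ3 (nthN sIRs j) = (1 : M) := by
  obtain ⟨h3, _, h5, _, h7⟩ := sgen_parts h
  have := chkP_sound ω fJ3_good h2 hω h3 h5 fJ3_good.hvIL fJ3_good.hvIR h7
  rwa [ML_one ω fJ3_good, MR_one ω fJ3_good, one_mul] at this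

include h2 hω in
theorem sgen_LR {j : Nat} (h : sgenOK j = true) :
    ML ω fJ3 (nthN sLs j) = (MR ω fJ3 (nthN sRs j) : M) := by
  obtain ⟨h3, h4, _, h6, _⟩ := sgen_parts h
  exact ML_eq_MR ω fJ3_good h2 hω h3 h4 h6

/-- The generators as units. -/
noncomputable def sU (j : Nat) (h : sgenOK j = true) : (M)ˣ where
  val := ML ω fJ3 (nthN sLs j)
  inv := MR ω fJ3 (nthN sIRs j)
  val_inv := sgen_inv h2 hω h
  inv_val := mul_eq_one_comm.1 (sgen_inv h2 hω h)

/-- The generating set. -/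
noncomputable def S0 : Set (M)ˣ := {sU h2 hω 0 sgen_ok0, sU h2 hω 1 sgen_ok1}

/-- The group. -/
noncomputable abbrev G0 : Subgroup (M)ˣ := closure (S0 h2 hω)

/-- The generators as a function. -/
noncomputable def sF (j : Nat) : (M)ˣ := Nat.rec (sU h2 hω 0 sgen_ok0) (fun _ _ => sU h2 hω 1 sgen_ok1) j

theorem sF_mem {j : Nat} (hj : j < 2) : sF h2 hω j ∈ G0 h2 hω := by
  interval_cases j
  · exact subset_closure (Or.inl rfl)
  · exact subset_closure (Or.inr rfl)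

theorem sF_val {j : Nat} (hj : j < 2) : (sF h2 hω j : M) = ML ω fJ3 (nthN sLs j) := by
  interval_cases j <;> rfl

theorem kR_valid : ∀ k < T1.nK, fJ3.vR (T1.KR k) = true := by
  intro k hk
  have := t2_ok k hk
  simp only [LT.atOK, ifB_eq_true] at this
  exact this.2.1

theorem sL_valid : ∀ j < T1.m, fJ3.vL (T1.sL j) = true := by
  intro j hj
  have hj' : j < 2 := hj
  interval_cases j
  · exact (sgen_parts sgen_ok0).1
  · exact (sgen_parts sgen_ok1).1

theorem kL_valid : ∀ j < T2.m, fJ3.vL (T2.sL j) = true := by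
  intro j hj
  have hj' : j < 2 := hj
  interval_cases j
  · have := kgen_ok0
    simp only [kgenOK, ifB_eq_true] at this
    exact this.1
  · have := kgen_ok1
    simp only [kgenOK, ifB_eq_true] at this
    exact this.1

include h2 hω in
theorem hT1 : (T1.toTbl fJ3 ω).Good :=
  KT.good fJ3_good h2 hω (by decide) t1_ok kR_valid sL_valid

include h2 hω in
theorem hT2 : (T2.toTbl fJ3 ω).Good :=
  LT.good fJ3_good h2 hω (by decide) t2_ok kL_valid

theorem hgs0 : ∀ j < (T1.toTbl fJ3 ω).m, ∃ s ∈ S0 h2 hω, (s : M) = (T1.toTbl fJ3 ω).s j := by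
  intro j hj
  have hj' : j < 2 := hj
  exact ⟨sF h2 hω j, by
    interval_cases j
    · exact Or.inl rfl
    · exact Or.inr rfl, sF_val h2 hω hj'⟩

theorem hS0 : ∀ s ∈ S0 h2 hω, ∃ j < (T1.toTbl fJ3 ω).m, (s : M) = (T1.toTbl fJ3 ω).s j := by
  rintro s (rfl | rfl)
  · exact ⟨0, (by decide : 0 < 2), rfl⟩
  · exact ⟨1, (by decide : 1 < 2), rfl⟩

include h2 hω in
theorem hgens : ∀ t < (T2.toTbl fJ3 ω).m, ∃ j < (T1.toTbl fJ3 ω).m, ∃ x < (T1.toTbl fJ3 ω).n,
    (T2.toTbl fJ3 ω).s t = (T1.toTbl fJ3 ω).Ke ((T1.toTbl fJ3 ω).kid j x) := by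
  intro t ht
  have ht' : t < 2 := ht
  have key : ∀ (t j x : Nat), kgenOK t j x = true →
      j < (T1.toTbl fJ3 ω).m ∧ x < (T1.toTbl fJ3 ω).n ∧
      (T2.toTbl fJ3 ω).s t = (T1.toTbl fJ3 ω).Ke ((T1.toTbl fJ3 ω).kid j x) := by
    intro t j x h
    simp only [kgenOK, ifB_eq_true] at h
    obtain ⟨h3, h4, h5, h6⟩ := h
    have hj : j < 2 := Nat.le_of_ble_eq_true h4
    have hx : x < 6156 := Nat.le_of_ble_eq_true h5
    refine ⟨hj, hx, ?_⟩
    have hk := KT.kid_lt (T := T1) (f := fJ3) (x := x) (j := j) hj (t1_ok x hx)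
    exact ML_eq_MR ω fJ3_good h2 hω h3 (kR_valid _ hk) h6
  interval_cases t
  · obtain ⟨h3, h4, h5⟩ := key _ _ _ kgen_ok0
    exact ⟨_, h3, _, h4, h5⟩
  · obtain ⟨h3, h4, h5⟩ := key _ _ _ kgen_ok1
    exact ⟨_, h3, _, h4, h5⟩

theorem hKe : ∀ j < (T1.toTbl fJ3 ω).m, ∀ x < (T1.toTbl fJ3 ω).n,
    (T1.toTbl fJ3 ω).kid j x < (T2.toTbl fJ3 ω).n ∧
    (T1.toTbl fJ3 ω).Ke ((T1.toTbl fJ3 ω).kid j x) =
      (T2.toTbl fJ3 ω).U ((T1.toTbl fJ3 ω).kid j x) := by
  intro j hj x hx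
  exact ⟨KT.kid_lt (T := T1) (f := fJ3) hj (t1_ok x hx), rfl⟩

/-- The data that comes before the lower bound. -/
structure Pre (K : Subgroup (M)ˣ) (u : Nat → (M)ˣ) : Prop where
  hu : ∀ x < 6156, u x ∈ G0 h2 hω ∧ (u x : M) = MR ω fJ3 (T1.UR x)
  hu0 : u 0 = 1
  hKle : K ≤ G0 h2 hω
  hK : ∀ k < 24480, ∃ g ∈ K, (g : M) = MR ω fJ3 (KRf k)
  hKs : ∀ t < 2, ∃ g ∈ K, (g : M) = ML ω fJ3 (nthN kLs t)
  hcard : Nat.card K ≤ 24480
  htab : ∀ j < 2, ∀ s : (M)ˣ, (s : M) = ML ω fJ3 (nthN sLs j) → ∀ x < 6156,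
    T1.tab j x < 6156 ∧ (u (T1.tab j x))⁻¹ * (s * u x) ∈ K

include h2 hω in
theorem exists_pre : ∃ (K : Subgroup (M)ˣ) (u : Nat → (M)ˣ), Pre h2 hω K u := by
  obtain ⟨K, u, h1, h3, h4, h5, h6, h7, h8⟩ := Tbl.Good.prelim (hT1 h2 hω) (hT2 h2 hω)
    (hgs0 h2 hω) (fun _ _ _ _ => rfl) hKe (hgens h2 hω)
  exact ⟨K, u, h1, h3, h4, h5, h6, h7, h8⟩

variable {h2 hω}
variable {K : Subgroup (Matrix (Fin fJ3.P.d) (Fin fJ3.P.d) F)ˣ}
variable {u : Nat → (Matrix (Fin fJ3.P.d) (Fin fJ3.P.d) F)ˣ}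

theorem Pre.LR (hP : Pre h2 hω K u) {x : Nat} (hx : x < 6156) :
    ML ω fJ3 (T1.UL x) = (u x : M) := by
  obtain ⟨_, h3, h4, h5, _⟩ := KT.parts (t1_ok x hx)
  rw [(hP.hu x hx).2]
  exact ML_eq_MR ω fJ3_good h2 hω h3 h4 h5

/-- Sifting. -/
theorem Pre.sift (hP : Pre h2 hω K u) {g y k : Nat} (h : siftOK fJ3 T1 g y k = true) :
    ∃ e ∈ G0 h2 hω, (e : M) = ML ω fJ3 g := by
  simp only [siftOK, ifB_eq_true] at h
  obtain ⟨h3, h4, h5, h6⟩ := h
  have hy : y < 6156 := Nat.le_of_ble_eq_true h4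
  have hk : k < 24480 := Nat.le_of_ble_eq_true h5
  obtain ⟨_, h7, _, _, _⟩ := KT.parts (t1_ok y hy)
  have := chkP_sound ω fJ3_good h2 hω h3 fJ3_good.hvIR h7 (kR_valid k hk) h6
  rw [MR_one ω fJ3_good, mul_one, hP.LR hy] at this
  obtain ⟨g', hg', hr⟩ := hP.hK k hk
  refine ⟨u y * g', mul_mem (hP.hu y hy).1 (hP.hKle hg'), ?_⟩
  rw [Units.val_mul, hr, this]
  rfl

/-- A list. -/
theorem Pre.list (hP : Pre h2 hω K u) (L : LT) (Mv : MV) (hn : 0 < L.n)
    (hok : ∀ x < L.n, listAt L Mv x = true) {σ : Nat → Nat}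
    (hσ : sortedB L.UR σ L.n L.n = true) {sy sk : List Nat}
    (hsift : rangeAll (siftAt L sy sk) 0 L.m = true) :
    ∃ Q : Subgroup (M)ˣ, Q ≤ G0 h2 hω ∧ Nat.card Q = L.n ∧
      (∀ j < L.m, ∃ g ∈ Q, (g : M) = ML ω fJ3 (L.sL j)) ∧
      ∀ g ∈ Q, ∃ x < L.n, (g : M) = MR ω fJ3 (L.UR x) := by
  have hparts : ∀ x < L.n, L.atOK fJ3 x = true := by
    intro x hx
    have := hok x hx
    simp only [listAt, ifB_eq_true] at this
    exact this.1
  have hsj : ∀ j < L.m, siftAt L sy sk j = true := by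
    intro j hj
    exact rangeAll_spec hsift j (Nat.zero_le _) (by simpa using hj)
  have hval : ∀ j < L.m, fJ3.vL (L.sL j) = true := by
    intro j hj
    have := hsj j hj
    simp only [siftAt, siftOK, ifB_eq_true] at this
    exact this.1
  have hmem : ∀ j < L.m, ∃ e ∈ G0 h2 hω, (e : M) = ML ω fJ3 (L.sL j) := by
    intro j hj
    exact hP.sift (hsj j hj)
  let E : Set (M)ˣ := {e | ∃ j < L.m, (e : M) = ML ω fJ3 (L.sL j)}
  have hgs : ∀ j < L.m, ∃ s ∈ E, (s : M) = ML ω fJ3 (L.sL j) := by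
    intro j hj
    obtain ⟨e, _, he⟩ := hmem j hj
    exact ⟨e, ⟨j, hj, he⟩, he⟩
  have hS : ∀ s ∈ E, ∃ j < L.m, (s : M) = ML ω fJ3 (L.sL j) := by
    rintro s ⟨j, hj, hs⟩
    exact ⟨j, hj, hs⟩
  refine ⟨closure E, ?_, ?_, ?_, ?_⟩
  · rw [closure_le]
    rintro e ⟨j, hj, he⟩
    obtain ⟨e', he', hr⟩ := hmem j hj
    have : e = e' := Units.ext (by rw [he, hr])
    rw [this]
    exact he'
  · exact LT.card_eq fJ3_good fJ3_inj h2 hω hn hparts hval hσ hgs hS
  · intro j hj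
    obtain ⟨s, hs, hr⟩ := hgs j hj
    exact ⟨s, subset_closure hs, hr⟩
  · intro g hg
    exact (L.good (ω := ω) fJ3_good h2 hω hn hparts hval).list_mem (fun _ _ _ _ => rfl) hS hg

/-- Lower bound. -/
theorem Pre.lb (hP : Pre h2 hω K u) : 6156 * 24480 ∣ Nat.card (G0 h2 hω) := by
  obtain ⟨Q3, h31, h32, _⟩ := hP.list S3_L S3_M (by decide) S3_ok S3_sorted S3_sift
  obtain ⟨Q2, h21, h22, _⟩ := hP.list S2_L S2_M (by decide) S2_ok S2_sorted S2_sift
  obtain ⟨Q5, h51, h52, _⟩ := hP.list P5_L P5_M (by decide) P5_ok P5_sorted P5_sift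
  obtain ⟨Q17, h171, h172, _⟩ := hP.list P17_L P17_M (by decide) P17_ok P17_sorted P17_sift
  obtain ⟨Q19, h191, h192, _⟩ := hP.list P19_L P19_M (by decide) P19_ok P19_sorted P19_sift
  have d3 : 729 ∣ Nat.card (G0 h2 hω) := (h32 ▸ Subgroup.card_dvd_of_le h31 :)
  have d2 : 128 ∣ Nat.card (G0 h2 hω) := (h22 ▸ Subgroup.card_dvd_of_le h21 :)
  have d5 : 5 ∣ Nat.card (G0 h2 hω) := (h52 ▸ Subgroup.card_dvd_of_le h51 :)
  have d17 : 17 ∣ Nat.card (G0 h2 hω) := (h172 ▸ Subgroup.card_dvd_of_le h171 :)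
  have d19 : 19 ∣ Nat.card (G0 h2 hω) := (h192 ▸ Subgroup.card_dvd_of_le h191 :)
  have e : 6156 * 24480 = 729 * (128 * (5 * (17 * 19))) := by norm_num
  rw [e]
  refine Nat.Coprime.mul_dvd_of_dvd_of_dvd (by norm_num) d3 ?_
  refine Nat.Coprime.mul_dvd_of_dvd_of_dvd (by norm_num) d2 ?_
  refine Nat.Coprime.mul_dvd_of_dvd_of_dvd (by norm_num) d5 ?_
  exact Nat.Coprime.mul_dvd_of_dvd_of_dvd (by norm_num) d17 d19

/-- The action on the cosets. -/
structure Act (K : Subgroup (Matrix (Fin fJ3.P.d) (Fin fJ3.P.d) F)ˣ)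
    (u : Nat → (Matrix (Fin fJ3.P.d) (Fin fJ3.P.d) F)ˣ)
    (P : G0 h2 hω →* Equiv.Perm (Fin 6156)) : Prop where
  pre : Pre h2 hω K u
  card : Nat.card (G0 h2 hω) = 6156 * 24480
  cardK : Nat.card K = 24480
  hP : ∀ (g : G0 h2 hω) (x y : Fin 6156), P g x = y ↔ ((u y)⁻¹ * ((g : (Matrix (Fin fJ3.P.d) (Fin fJ3.P.d) F)ˣ) * u x)) ∈ K

theorem Pre.exists_act (hP : Pre h2 hω K u) : ∃ P : G0 h2 hω →* Equiv.Perm (Fin 6156), Act K u P := by
  obtain ⟨P, h3, h4, h5⟩ := Table2.hom_of_prelim (n := 6156) (n2 := 24480) (m := 2) (tab := T1.tab)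
    (sj := fun j => (ML ω fJ3 (nthN sLs j) : M)) (S := S0 h2 hω) (by norm_num)
    (by
      rintro s (rfl | rfl)
      · exact ⟨0, by norm_num, rfl⟩
      · exact ⟨1, by norm_num, rfl⟩)
    (fun x hx => (hP.hu x hx).1) hP.hu0 hP.hKle hP.hcard hP.htab hP.lb
  exact ⟨P, ⟨hP, h3, h4, h5⟩⟩

variable {P : G0 h2 hω →* Equiv.Perm (Fin 6156)}

/-- An identity with representatives computes the action. -/
theorem Act.apply_eq (hA : Act K u P) {g : G0 h2 hω} {a b k : Nat} (ha : a < 6156) (hb : b < 6156)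
    (hk : k < 24480)
    (h : ((g : (M)ˣ) : M) * MR ω fJ3 (T1.UR a) = MR ω fJ3 (T1.UR b) * MR ω fJ3 (KRf k)) :
    P g ⟨a, ha⟩ = ⟨b, hb⟩ := by
  rw [hA.hP]
  obtain ⟨k', hk', hr⟩ := hA.pre.hK k hk
  have e : (g : (M)ˣ) * u a = u b * k' := by
    apply Units.ext
    rw [Units.val_mul, Units.val_mul, (hA.pre.hu a ha).2, (hA.pre.hu b hb).2, hr, h]
  show (u b)⁻¹ * ((g : (M)ˣ) * u a) ∈ K
  rw [e, inv_mul_cancel_left]
  exact hk'

/-- An element of a list with a move is not in the kernel. -/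
theorem Act.moved (hA : Act K u P) {L : LT} {Mv : MV} (hER : Mv.ER = L.UR)
    (hok : ∀ x < L.n, listAt L Mv x = true) {g : G0 h2 hω} {x : Nat} (hx : x < L.n)
    (hg : ((g : (M)ˣ) : M) = MR ω fJ3 (L.UR x)) (hexc : Mv.exc x = false) : P g ≠ 1 := by
  have h1 := hok x hx
  simp only [listAt, ifB_eq_true] at h1
  have hv : fJ3.vR (Mv.ER x) = true := by
    rw [hER]
    have := h1.1
    simp only [LT.atOK, ifB_eq_true] at this
    exact this.2.1
  obtain ⟨a, ha, b, hb, k, hk, hne, h3⟩ := MV.sound (ω := ω) fJ3_good h2 hω t1_ok kR_valid hv h1.2 hexc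
  rw [hER, ← hg] at h3
  have h4 := hA.apply_eq ha hb hk h3
  intro h5
  rw [h5] at h4
  apply hne
  exact congrArg Fin.val h4

/-- The elements of a list in the kernel. -/
theorem Act.ker_list (hA : Act K u P) {L : LT} {Mv : MV} (hER : Mv.ER = L.UR)
    (hok : ∀ x < L.n, listAt L Mv x = true) {g : G0 h2 hω} {x : Nat} (hx : x < L.n)
    (hg : ((g : (M)ˣ) : M) = MR ω fJ3 (L.UR x)) (h1 : P g = 1) : Mv.exc x = true := by
  cases he : Mv.exc x with
  | true => rfl
  | false => exact absurd h1 (hA.moved hER hok hx hg he)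

theorem MR_ω (hω : ω ^ 2 + ω + 1 = 0) : MR ω fJ3 Rω = (ω • 1 : M) := by
  ext k j
  have h0 := Rω_0 k k.2 j j.2
  have h1 := Rω_1 k k.2 j j.2
  show val ω (D 32 (Nat.land Rω fJ3.mR) (pJ3.pos k j)) (D 32 (Nat.shiftRight Rω fJ3.wR) (pJ3.pos k j)) = _
  rw [h0, h1, Matrix.smul_apply, Matrix.one_apply]
  by_cases h : k = j
  · subst h
    simp [val]
  · have : (k : Nat) ≠ j := fun h3 => h (Fin.ext h3)
    simp [val, h, this]

theorem MR_ω2 (h2 : (2 : F) = 0) (hω : ω ^ 2 + ω + 1 = 0) : MR ω fJ3 Rω2 = (ω ^ 2 • 1 : M) := by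
  have hs : ω ^ 2 = 1 + ω := by linear_combination hω - (1 + ω) * h2
  ext k j
  have h0 := Rω2_0 k k.2 j j.2
  have h1 := Rω2_1 k k.2 j j.2
  show val ω (D 32 (Nat.land Rω2 fJ3.mR) (pJ3.pos k j)) (D 32 (Nat.shiftRight Rω2 fJ3.wR) (pJ3.pos k j)) = _
  rw [h0, h1, Matrix.smul_apply, Matrix.one_apply]
  by_cases h : k = j
  · subst h
    simp [val, hs]
  · have : (k : Nat) ≠ j := fun h3 => h (Fin.ext h3)
    simp [val, h, this]

theorem ω_facts (h2 : (2 : F) = 0) (hω : ω ^ 2 + ω + 1 = 0) : ω ^ 3 = 1 ∧ ω ≠ 1 := by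
  constructor
  · linear_combination (ω - 1) * hω
  · rintro rfl
    apply one_ne_zero (α := F)
    have : (1 : F) ^ 2 + 1 + 1 = 0 := hω
    linear_combination this - h2

/-- A list with no exceptions but the identity gives a subgroup meeting the kernel trivially. -/
theorem Act.list_R (hA : Act K u P) (L : LT) (Mv : MV) (hER : Mv.ER = L.UR) (hn : 0 < L.n)
    (hok : ∀ x < L.n, listAt L Mv x = true) {σ : Nat → Nat}
    (hσ : sortedB L.UR σ L.n L.n = true) {sy sk : List Nat}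
    (hsift : rangeAll (siftAt L sy sk) 0 L.m = true)
    (hexc : ∀ x < L.n, Mv.exc x = true → L.UR x = fJ3.IR) :
    ∃ R : Subgroup (G0 h2 hω), Nat.card R = L.n ∧ ∀ x ∈ R, x ∈ P.ker → x = 1 := by
  obtain ⟨Q, h1, h3, _, h5⟩ := hA.pre.list L Mv hn hok hσ hsift
  refine ⟨Q.subgroupOf (G0 h2 hω), ?_, ?_⟩
  · rw [← h3]
    exact Nat.card_congr (subgroupOfEquivOfLe h1).toEquiv
  · intro x hx hker
    obtain ⟨i, hi, hr⟩ := h5 _ (Subgroup.mem_subgroupOf.1 hx)
    have h6 := hA.ker_list hER hok hi hr hker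
    rw [hexc i hi h6, MR_one ω fJ3_good] at hr
    exact Subtype.ext (Units.ext hr)

theorem card_G (hA : Act K u P) : Nat.card (G0 h2 hω) = 150698880 := by
  rw [hA.card]

/-- The Sylow subgroups for the other primes. -/
theorem Act.other (hA : Act K u P) {p : ℕ} (hp : p.Prime) (hd : p ∣ Nat.card (G0 h2 hω))
    (hne : p ≠ 3) : ∃ R : Subgroup (G0 h2 hω),
      Nat.card R = p ^ (Nat.card (G0 h2 hω)).factorization p ∧
      ∀ x ∈ R, x ∈ P.ker → orderOf x = p → False := by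
  have hc := card_G hA
  have hfin : ∀ R : Subgroup (G0 h2 hω), (∀ x ∈ R, x ∈ P.ker → x = 1) →
      ∀ x ∈ R, x ∈ P.ker → orderOf x = p → False := by
    intro R hR x hx hk ho
    rw [hR x hx hk, orderOf_one] at ho
    exact hp.one_lt.ne ho
  rw [hc] at hd ⊢
  have e : 150698880 = 2 ^ 7 * (3 ^ 6 * (5 * (17 * 19))) := by norm_num
  rw [e] at hd
  have hcases : p = 2 ∨ p = 3 ∨ p = 5 ∨ p = 17 ∨ p = 19 := by
    rcases (Nat.Prime.dvd_mul hp).1 hd with h | h
    · exact Or.inl ((Nat.prime_dvd_prime_iff_eq hp (by norm_num)).1 (hp.dvd_of_dvd_pow h))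
    rcases (Nat.Prime.dvd_mul hp).1 h with h | h
    · exact Or.inr (Or.inl ((Nat.prime_dvd_prime_iff_eq hp (by norm_num)).1 (hp.dvd_of_dvd_pow h)))
    rcases (Nat.Prime.dvd_mul hp).1 h with h | h
    · exact Or.inr (Or.inr (Or.inl ((Nat.prime_dvd_prime_iff_eq hp (by norm_num)).1 h)))
    rcases (Nat.Prime.dvd_mul hp).1 h with h | h
    · exact Or.inr (Or.inr (Or.inr (Or.inl ((Nat.prime_dvd_prime_iff_eq hp (by norm_num)).1 h))))
    · exact Or.inr (Or.inr (Or.inr (Or.inr ((Nat.prime_dvd_prime_iff_eq hp (by norm_num)).1 h))))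
  have hexc : ∀ {EX : List Nat} {UR : Nat → Nat} {n : Nat}, Core.allL (fun x => ifB (Nat.ble (Nat.succ x) n)
      (Nat.beq (UR x) fJ3.IR)) EX = true → ∀ x, Core.memN x EX = true → UR x = fJ3.IR := by
    intro EX UR n h x hx
    have := (Core.allL_eq_true _ _).1 h x ((Core.memN_eq_true _ _).1 hx)
    rw [ifB_eq_true] at this
    exact Nat.eq_of_beq_eq_true this.2
  rcases hcases with rfl | rfl | rfl | rfl | rfl
  · obtain ⟨R, h3, h4⟩ := hA.list_R S2_L S2_M rfl (by decide) S2_ok S2_sorted S2_sift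
      (fun x _ h => hexc S2_exc x h)
    refine ⟨R, ?_, hfin R h4⟩
    rw [h3, Cover.factorization_eq (a := 7) (m := 1177335) Nat.prime_two (by norm_num) (by norm_num)]
    rfl
  · exact absurd rfl hne
  · obtain ⟨R, h3, h4⟩ := hA.list_R P5_L P5_M rfl (by decide) P5_ok P5_sorted P5_sift
      (fun x _ h => hexc P5_exc x h)
    refine ⟨R, ?_, hfin R h4⟩
    rw [h3, Cover.factorization_eq (a := 1) (m := 30139776) (by norm_num) (by norm_num) (by norm_num)]
    rfl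
  · obtain ⟨R, h3, h4⟩ := hA.list_R P17_L P17_M rfl (by decide) P17_ok P17_sorted P17_sift
      (fun x _ h => hexc P17_exc x h)
    refine ⟨R, ?_, hfin R h4⟩
    rw [h3, Cover.factorization_eq (a := 1) (m := 8864640) (by norm_num) (by norm_num) (by norm_num)]
    rfl
  · obtain ⟨R, h3, h4⟩ := hA.list_R P19_L P19_M rfl (by decide) P19_ok P19_sorted P19_sift
      (fun x _ h => hexc P19_exc x h)
    refine ⟨R, ?_, hfin R h4⟩
    rw [h3, Cover.factorization_eq (a := 1) (m := 7931520) (by norm_num) (by norm_num) (by norm_num)]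
    rfl

/-- The elements of the kernel are scalars. -/
theorem Act.ker_scalar (hA : Act K u P) {g : G0 h2 hω} (h : P g = 1) :
    ((g : (M)ˣ) : M) = 1 ∨ ((g : (M)ˣ) : M) = ω • 1 ∨ ((g : (M)ˣ) : M) = ω ^ 2 • 1 := by
  obtain ⟨Q, h1, h3, _, h5⟩ := hA.pre.list S3_L S3_M (by decide) S3_ok S3_sorted S3_sift
  have hc := card_G hA
  have hQ : Nat.card (Q.subgroupOf (G0 h2 hω)) = 3 ^ (Nat.card (G0 h2 hω)).factorization 3 := by
    have h6 : Nat.card (Q.subgroupOf (G0 h2 hω)) = 729 := by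
      rw [← show Nat.card Q = 729 from h3]
      exact Nat.card_congr (subgroupOfEquivOfLe h1).toEquiv
    rw [h6, hc, Cover.factorization_eq (a := 6) (m := 206720) Nat.prime_three (by norm_num) (by norm_num)]
    rfl
  have hle := Cover.le_of_sylow P.ker 3 (Q.subgroupOf (G0 h2 hω)) hQ
    (fun p hp hd hne => hA.other hp hd hne)
  have hg := hle ((MonoidHom.mem_ker).2 h)
  obtain ⟨i, hi, hr⟩ := h5 _ (Subgroup.mem_subgroupOf.1 hg)
  have h6 := hA.ker_list (Mv := S3_M) rfl S3_ok hi hr h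
  have h7 := (Core.allL_eq_true _ _).1 S3_exc i ((Core.memN_eq_true _ _).1 h6)
  rw [ifB_eq_true] at h7
  have h8 := (Core.memN_eq_true _ _).1 h7.2
  simp only [List.mem_cons, List.not_mem_nil, or_false] at h8
  rcases h8 with h9 | h9 | h9
  · left
    rw [hr, h9, MR_one ω fJ3_good]
  · right; left
    rw [hr, h9, MR_ω hω]
  · right; right
    rw [hr, h9, MR_ω2 h2 hω]

/-- The structure of the kernel. -/
theorem Act.ker_facts (hA : Act K u P) : Nat.card P.ker = 3 ∧ P.ker ≤ center (G0 h2 hω) := by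
  obtain ⟨z, hz, hzv⟩ := hA.pre.hK iKω iKω_lt
  have hzv' : (z : M) = ω • 1 := by
    rw [hzv, ← MR_ω hω]
    exact congrArg _ scal_ok
  let zt : G0 h2 hω := ⟨z, hA.pre.hKle hz⟩
  have hzc : ∀ a : (M)ˣ, z * a = a * z := by
    intro a
    apply Units.ext
    rw [Units.val_mul, Units.val_mul, hzv', smul_mul_assoc, mul_smul_comm, one_mul, mul_one]
  have hzP : P zt = 1 := by
    ext x
    have : P zt x = x := by
      rw [hA.hP]
      show (u x)⁻¹ * (z * u x) ∈ K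
      rw [hzc, inv_mul_cancel_left]
      exact hz
    rw [this]
    rfl
  obtain ⟨hω3, hω1⟩ := ω_facts h2 hω
  have hz3 : zt ^ 3 = 1 := by
    apply Subtype.ext
    apply Units.ext
    show ((z ^ 3 : (M)ˣ) : M) = 1
    rw [Units.val_pow_eq_pow_val, hzv', smul_pow, one_pow, hω3, one_smul]
  have hz1 : zt ≠ 1 := by
    intro h
    have h3 : (z : M) = 1 := by
      have := congrArg (fun a : G0 h2 hω => ((a : (M)ˣ) : M)) h
      exact this
    rw [hzv'] at h3
    have h4 := congrFun (congrFun h3 (⟨0, by decide⟩ : Fin 9)) (⟨0, by decide⟩ : Fin 9)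
    simp only [Matrix.smul_apply, Matrix.one_apply_eq, smul_eq_mul, mul_one] at h4
    exact hω1 h4
  have hord : orderOf zt = 3 := orderOf_eq_prime hz3 hz1
  have hker : P.ker = zpowers zt := by
    apply le_antisymm
    · intro g hg
      rcases hA.ker_scalar (MonoidHom.mem_ker.1 hg) with h | h | h
      · have : g = 1 := Subtype.ext (Units.ext h)
        rw [this]
        exact one_mem _
      · have : g = zt := Subtype.ext (Units.ext (by rw [h, ← hzv']))
        rw [this]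
        exact mem_zpowers _
      · have : g = zt ^ 2 := by
          apply Subtype.ext
          apply Units.ext
          show ((g : (M)ˣ) : M) = ((z ^ 2 : (M)ˣ) : M)
          rw [Units.val_pow_eq_pow_val, hzv', smul_pow, one_pow, h]
        rw [this]
        exact pow_mem (mem_zpowers _) _
    · rw [zpowers_le]
      exact MonoidHom.mem_ker.2 hzP
  constructor
  · rw [hker, Nat.card_zpowers, hord]
  · rw [hker, zpowers_le, Subgroup.mem_center_iff]
    intro b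
    apply Subtype.ext
    exact (hzc _).symm

/-- The order of the image. -/
theorem Act.card_range (hA : Act K u P) : Nat.card P.range = 50232960 := by
  have h1 := Subgroup.card_eq_card_quotient_mul_card_subgroup P.ker
  rw [hA.ker_facts.1, card_G hA,
    Nat.card_congr (QuotientGroup.quotientKerEquivRange P).toEquiv] at h1
  omega

/-- The image is transitive. -/
theorem Act.pretrans (hA : Act K u P) : MulAction.IsPretransitive P.range (Fin 6156) := by
  rw [MulAction.isPretransitive_iff_base (0 : Fin 6156)]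
  intro x
  refine ⟨⟨P ⟨u x, (hA.pre.hu x x.2).1⟩, ⟨_, rfl⟩⟩, ?_⟩
  show P ⟨u x, (hA.pre.hu x x.2).1⟩ 0 = x
  rw [hA.hP]
  show (u x)⁻¹ * (u x * u 0) ∈ K
  rw [hA.pre.hu0]
  simp [one_mem]

/-- The forest of the orbits of the subgroup. -/
theorem Act.forest (hA : Act K u P) : ∀ d x, x < 6156 → F1.dep x = d →
    ∃ h ∈ P.range, ∃ hx : x < 6156, (h 0 : Fin 6156) = 0 ∧ (h ⟨x, hx⟩ : Nat) = F1.rep (F1.lab x) := by
  intro d
  induction d with
  | zero =>
    intro x hx hd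
    obtain ⟨_, h3, _⟩ := FR.sound (ω := ω) fJ3_good h2 hω t1_ok kR_valid kL_valid hx (f1_ok x hx)
    refine ⟨1, one_mem _, hx, rfl, ?_⟩
    exact h3 hd
  | succ d ih =>
    intro x hx hd
    obtain ⟨_, _, h4⟩ := FR.sound (ω := ω) fJ3_good h2 hω t1_ok kR_valid kL_valid hx (f1_ok x hx)
    obtain ⟨q, hq, j, hj, k, hk, h5, h6, h7⟩ := h4 (by omega)
    obtain ⟨kj, hkj, hkv⟩ := hA.pre.hKs j hj
    let kt : G0 h2 hω := ⟨kj, hA.pre.hKle hkj⟩
    have hq2 : q < 6156 := hq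
    have hk2 : k < 24480 := hk
    have h8 : P kt ⟨q, hq2⟩ = ⟨x, hx⟩ := by
      apply hA.apply_eq hq2 hx hk2
      rw [show ((kt : (M)ˣ) : M) = ML ω fJ3 (nthN kLs j) from hkv]
      exact h7
    have h9 : P kt 0 = 0 := by
      rw [hA.hP]
      show (u 0)⁻¹ * (kj * u 0) ∈ K
      rw [hA.pre.hu0]
      simpa using hkj
    obtain ⟨h', hh', _, h10, h11⟩ := ih q hq2 (by omega)
    refine ⟨h' * (P kt)⁻¹, mul_mem hh' (inv_mem ⟨kt, rfl⟩), hx, ?_, ?_⟩
    · rw [Equiv.Perm.mul_apply]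
      have : (P kt)⁻¹ 0 = 0 := by
        rw [Equiv.Perm.inv_eq_iff_eq, h9]
      rw [this, h10]
    · rw [Equiv.Perm.mul_apply]
      have : (P kt)⁻¹ ⟨x, hx⟩ = ⟨q, hq2⟩ := by
        rw [Equiv.Perm.inv_eq_iff_eq, h8]
      rw [this, h11, h6]

/-- The image is primitive. -/
theorem Act.prim (hA : Act K u P) :
    MulAction.IsPreprimitive P.range (Fin 6156) := by
  have hT := hA.pretrans
  have hlab : ∀ x : Fin 6156, F1.lab x < 8 := fun x =>
    (FR.sound (ω := ω) fJ3_good h2 hω t1_ok kR_valid kL_valid x.2 (f1_ok x x.2)).1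
  refine Cover.preprimitive_of_labels P.range (0 : Fin 6156) (fun x => ⟨F1.lab x, hlab x⟩)
    (fun i => ⟨nthN FREP i, rep_lt i i.2⟩) ?_ (fun i => nthN FC i) ?_ ?_
  · intro x
    obtain ⟨h, hh, _, h3, h4⟩ := hA.forest _ x x.2 rfl
    exact ⟨h, hh, h3, Fin.ext h4⟩
  · intro i
    rw [← orbit_count i i.2, countB_eq, Nat.zero_add, Finset.card_filter,
      ← Fin.sum_univ_eq_sum_range (fun x => if F1.lab x = (i : Nat) then 1 else 0)]
    apply Finset.sum_congr rfl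
    intro x _
    simp only [Fin.ext_iff]
  · intro I h0 hd
    have h01 : (⟨F1.lab (0 : Fin 6156), hlab 0⟩ : Fin 8) = 0 := Fin.ext lab_zero
    rw [h01] at h0
    exact hsum_dec I h0 hd

/-- The normal closure of the element of order `19`. -/
theorem Act.normal_top (hA : Act K u P) {r : (M)ˣ} (hr : r ∈ G0 h2 hω)
    (hrv : (r : M) = MR ω fJ3 Vbase) (N : Subgroup P.range) (hN : N.Normal)
    (hrN : P.rangeRestrict ⟨r, hr⟩ ∈ N) : N = ⊤ := by
  have hN' : (N.comap P.rangeRestrict).Normal := Subgroup.Normal.comap hN _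
  let N2 : Subgroup (M)ˣ := (N.comap P.rangeRestrict).map (G0 h2 hω).subtype
  have hr2 : r ∈ N2 := ⟨⟨r, hr⟩, hrN, rfl⟩
  have hconj : ∀ j < 2, ∀ g ∈ N2, sF h2 hω j * g * (sF h2 hω j)⁻¹ ∈ N2 := by
    rintro j hj _ ⟨g, hg, rfl⟩
    refine ⟨⟨sF h2 hω j, sF_mem h2 hω hj⟩ * g * (⟨sF h2 hω j, sF_mem h2 hω hj⟩)⁻¹,
      hN'.conj_mem g hg _, rfl⟩
  have hslp : ∀ i < Vlen, S1.atOK fJ3 i = true := fun i hi =>
    rangeAll_spec slp_ok i (Nat.zero_le _) (by simpa using hi)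
  have hval : ∀ j < 2, fJ3.vL (nthN sLs j) = true ∧ fJ3.vR (nthN sRs j) = true := by
    intro j hj
    interval_cases j
    · exact ⟨(sgen_parts sgen_ok0).1, (sgen_parts sgen_ok0).2.1⟩
    · exact ⟨(sgen_parts sgen_ok1).1, (sgen_parts sgen_ok1).2.1⟩
  have hsv : ∀ j < 2, (sF h2 hω j : M) = ML ω fJ3 (nthN sLs j) ∧
      (sF h2 hω j : M) = MR ω fJ3 (nthN sRs j) := by
    intro j hj
    refine ⟨sF_val h2 hω hj, ?_⟩
    rw [sF_val h2 hω hj]
    interval_cases j
    · exact sgen_LR h2 hω sgen_ok0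
    · exact sgen_LR h2 hω sgen_ok1
  have hm := SP.mem (S := S1) (ω := ω) fJ3_good h2 hω hslp hval N2 (sF h2 hω) hsv hconj r hr2 hrv
  have hgen : ∀ j < 2, ∀ i < Vlen, S1.VR i = nthN sRs j → sF h2 hω j ∈ N2 := by
    intro j hj i hi he
    obtain ⟨g, hg, hv⟩ := hm i hi
    have : sF h2 hω j = g := by
      apply Units.ext
      rw [hv, he, (hsv j hj).2]
    rw [this]
    exact hg
  have hx := hgen 0 (by norm_num) _ slp_ix slp_x
  have hy := hgen 1 (by norm_num) _ slp_iy slp_y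
  have hle : G0 h2 hω ≤ N2 := by
    rw [closure_le]
    rintro s (rfl | rfl)
    · exact hx
    · exact hy
  rw [eq_top_iff]
  rintro y -
  obtain ⟨g, rfl⟩ := P.rangeRestrict_surjective y
  obtain ⟨g', hg', he⟩ := hle g.2
  have : g' = g := Subtype.ext he
  rw [← this]
  exact hg'

/-- The image is simple. -/
theorem Act.simple (hA : Act K u P) : IsSimpleGroup P.range := by
  obtain ⟨Q, h1, h3, h4, h5⟩ := hA.pre.list P19_L P19_M (by decide) P19_ok P19_sorted P19_sift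
  obtain ⟨r, hrQ, hrv0⟩ := h4 0 (by decide)
  have hrv : (r : M) = MR ω fJ3 Vbase := by
    rw [hrv0]
    exact ML_eq_MR ω fJ3_good h2 hω vL_base vR_base base_ok
  have hr : r ∈ G0 h2 hω := h1 hrQ
  let rt : G0 h2 hω := ⟨r, hr⟩
  have hr19 : rt ^ 19 = 1 := by
    have h6 : (⟨r, hrQ⟩ : Q) ^ Nat.card Q = 1 := pow_card_eq_one'
    rw [show Nat.card Q = 19 from h3] at h6
    have h7 : r ^ 19 = 1 := congrArg Subtype.val h6
    exact Subtype.ext h7
  have hr1 : P rt ≠ 1 := by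
    obtain ⟨i, hi, hri⟩ := h5 r hrQ
    cases he : P19_M.exc i with
    | false => exact hA.moved (Mv := P19_M) rfl P19_ok hi hri he
    | true =>
      exfalso
      have h7 := (Core.allL_eq_true _ _).1 P19_exc i ((Core.memN_eq_true _ _).1 he)
      rw [ifB_eq_true] at h7
      have h8 := Nat.eq_of_beq_eq_true h7.2
      rw [h8, MR_one ω fJ3_good, hrv, ← MR_one ω fJ3_good] at hri
      exact base_ne (MR_inj ω fJ3_good fJ3_inj h2 hω vR_base fJ3_good.hvIR hri)
  let rb : P.range := P.rangeRestrict rt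
  have hrb1 : rb ≠ 1 := fun h => hr1 (congrArg Subtype.val h)
  have hrb19 : rb ^ 19 = 1 := by
    rw [← map_pow, hr19, map_one]
  have hord : orderOf rb = 19 := by
    have : Fact (Nat.Prime 19) := ⟨by norm_num⟩
    exact orderOf_eq_prime hrb19 hrb1
  have hcr := hA.card_range
  have : Nontrivial P.range := ⟨⟨rb, 1, hrb1⟩⟩
  have hprim := hA.prim
  refine Simple.isSimple_of_primitive (α := Fin 6156) 19 (by norm_num) (by simp) (zpowers rb) ?_ ?_
  · rw [Nat.card_zpowers, hord, hcr, Cover.factorization_eq (a := 1) (m := 2643840) (by norm_num)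
      (by norm_num) (by norm_num)]
    rfl
  · intro x hx hxo
    have hN : (normalClosure ({x} : Set P.range)).Normal := inferInstance
    refine hA.normal_top hr hrv _ hN ?_
    have h6 : zpowers x = zpowers rb := by
      apply Subgroup.eq_of_le_of_card_ge
      · rw [zpowers_le]
        exact hx
      · rw [Nat.card_zpowers, Nat.card_zpowers, hord, hxo]
    have h7 : rb ∈ zpowers x := by
      rw [h6]
      exact mem_zpowers _
    have h8 : zpowers x ≤ normalClosure ({x} : Set P.range) := by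
      rw [zpowers_le]
      exact Subgroup.subset_normalClosure rfl
    exact h8 h7

/-- The main theorem on the group of matrices. -/
theorem Act.center_eq (hA : Act K u P) : center (G0 h2 hω) = P.ker :=
  Cover.center_eq_ker P hA.simple (by rw [hA.card_range]; norm_num) hA.ker_facts.2

end Gen

end Cfsg.Agent.Lib.PermComp.Spor.J3
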