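import Cfsg.Agent.Lib.PermComp.Spor.J3.Bridge

/-!
# The main theorem on `threeJ3`
-/

namespace Cfsg.Agent.Lib.PermComp.Spor.J3

open Cfsg.Agent.Lib.PermComp Cfsg.Spor Subgroup

variable {F : Type*} [Field F]

theorem two_eq_zero_of_card [Fintype F] (hF : Fintype.card F = 4) : (2 : F) = 0 := by
  have h1 : (4 : ℕ) • (1 : F) = 0 := by
    rw [← hF]
    exact card_nsmul_eq_zero
  have h3 : (2 : F) * 2 = 0 := by
    have : (4 : ℕ) • (1 : F) = 2 * 2 := by norm_num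
    rw [← this, h1]
  exact mul_self_eq_zero.1 h3

/-- The main theorem. -/
theorem main [Finite F] {ω : F} (h2 : (2 : F) = 0) (hω : ω ^ 2 + ω + 1 = 0) :
    Nat.card (threeJ3 F ω) = 150698880 ∧ Nat.card (center (threeJ3 F ω)) = 3 ∧
    ∃ H : Subgroup (Equiv.Perm (Fin 6156)), Nat.card H = 50232960 ∧ IsSimpleGroup H ∧
      MulAction.IsPretransitive H (Fin 6156) ∧ Nonempty (J3 F ω ≃* H) := by
  obtain ⟨K, u, hP⟩ := exists_pre h2 hω
  obtain ⟨P, hA⟩ := hP.exists_act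
  have hc := hA.center_eq
  refine ⟨?_, ?_, P.range, hA.card_range, hA.simple, hA.pretrans, ?_⟩
  · rw [Nat.card_congr (equivG0 h2 hω).toEquiv]
    exact card_G hA
  · rw [Cover.card_center_congr (equivG0 h2 hω), hc]
    exact hA.ker_facts.1
  · obtain ⟨e1⟩ := Cover.quot_center_congr (equivG0 h2 hω)
    obtain ⟨e2⟩ := Cover.quot_center_equiv P hc
    exact ⟨e1.trans e2⟩

end Cfsg.Agent.Lib.PermComp.Spor.J3
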