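import Cfsg.Agent.Lib.PermComp.Spor.J3.Thm

/-!
# The permutation group of `J3` with its generators
-/

namespace Cfsg.Agent.Lib.PermComp.Spor.J3

open Cfsg.Agent.Lib.PermComp Cfsg.Spor Subgroup

variable {F : Type*} [Field F] [Finite F] {ω : F}

/-- The generators act as in the table. -/
theorem Act.gen_tab {K : Subgroup (Matrix (Fin fJ3.P.d) (Fin fJ3.P.d) F)ˣ}
    {u : Nat → (Matrix (Fin fJ3.P.d) (Fin fJ3.P.d) F)ˣ} {h2 : (2 : F) = 0}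
    {hω : ω ^ 2 + ω + 1 = 0} {P : G0 h2 hω →* Equiv.Perm (Fin 6156)} (hA : Act K u P)
    {j : Nat} (hj : j < 2) (p : Nat) (hp : p < 6156) :
    T1.tab j p = (P ⟨sF h2 hω j, sF_mem h2 hω hj⟩ ⟨p, hp⟩ : Fin 6156) := by
  obtain ⟨h3, h4⟩ := hA.pre.htab j hj (sF h2 hω j) (sF_val h2 hω hj) p hp
  have h5 : P ⟨sF h2 hω j, sF_mem h2 hω hj⟩ ⟨p, hp⟩ = ⟨T1.tab j p, h3⟩ := by
    rw [hA.hP]
    exact h4
  rw [h5]

/-- The main theorem, with the generators. -/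
theorem main2 (h2 : (2 : F) = 0) (hω : ω ^ 2 + ω + 1 = 0) :
    ∃ H : Subgroup (Equiv.Perm (Fin 6156)), Nat.card H = 50232960 ∧ IsSimpleGroup H ∧
      MulAction.IsPretransitive H (Fin 6156) ∧ Nonempty (J3 F ω ≃* H) ∧
      ∀ j < 2, ∃ e ∈ H, ∀ (p : Nat) (hp : p < 6156), T1.tab j p = (e ⟨p, hp⟩ : Fin 6156) := by
  obtain ⟨K, u, hP⟩ := exists_pre h2 hω
  obtain ⟨P, hA⟩ := hP.exists_act
  have hc := hA.center_eq
  refine ⟨P.range, hA.card_range, hA.simple, hA.pretrans, ?_, ?_⟩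
  · obtain ⟨e1⟩ := Cover.quot_center_congr (equivG0 h2 hω)
    obtain ⟨e2⟩ := Cover.quot_center_equiv P hc
    exact ⟨e1.trans e2⟩
  · intro j hj
    exact ⟨_, ⟨_, rfl⟩, fun p hp => hA.gen_tab hj p hp⟩

end Cfsg.Agent.Lib.PermComp.Spor.J3
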